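import Groth.Agent.H86.Hilb.Main

/-!
# helper86: every coherent module has a (good) Hilbert polynomial — Noetherian induction

`good_all`: for `X` Noetherian, locally of finite type over the field `k`, `L` ample, given
additivity of the Euler characteristic and finiteness of coherent cohomology, every coherent
module `M` satisfies `Good k L M`.
-/

set_option autoImplicit false
set_option linter.style.haveILetI false
set_option linter.unusedSectionVars false
universe u
open CategoryTheory CategoryTheory.Limits AlgebraicGeometry Polynomial TopologicalSpace Opposite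

namespace Groth.Agent.H86.Hilb

open Groth.Agent.H48.FieldDim Groth.Agent.H92.ParHilb Groth.Agent.H18.STL Groth.Agent.H67.Dev
  Groth.Agent.H5.Stalk

variable {k : Type u} [Field k] {X : Scheme.{u}} [X.Over (Spec (CommRingCat.of k))]
  [LocallyOfFiniteType (X ↘ Spec (CommRingCat.of k))] [IsNoetherian X]

/-- the irreducible step of the dévissage -/
theorem good_push (hadd : EulerAdd k X)
    (hfin : ∀ M : X.Modules, Coh.IsCoh M → ∀ n, Module.Finite k (Coh.HH X M n))
    {L : X.Modules} (hL : CohB1.IsAmple L)
    (Z : Scheme.{u}) (i : Z ⟶ X) [IsClosedImmersion i] [IsIntegral Z]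
    (ih : ∀ Q : X.Modules, Coh.IsCoh Q → CohB1.support Q ⊆ Set.range i →
        i (genericPoint Z) ∉ CohB1.support Q → Good k L Q)
    (I : Z.Modules) (ι : I ⟶ Coh.structureModule Z) [Mono ι] (hI : Coh.IsQCoh I) :
    Good k L ((Coh.push i).obj I) := by
  have hM : Coh.IsCoh ((Coh.push i).obj I) := isCoh_push_of_mono i ι hI
  have hMsupp : CohB1.support ((Coh.push i).obj I) ⊆ Set.range i :=
    Groth.Agent.H71.QCoh.support_subset_range_of_iso_pushforward i I _ (Iso.refl _)
  by_cases hx₀ : i (genericPoint Z) ∈ CohB1.support ((Coh.push i).obj I)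
  swap
  · exact ih _ hM hMsupp hx₀
  refine good_of_cokernels hadd hfin hL _ hM (i (genericPoint Z)) hx₀ ?_ ?_ ?_
  · intro y hy
    have := hMsupp hy
    rw [range_eq_closure i] at this
    exact specializes_iff_mem_closure.2 this
  · intro N u hx
    haveI : Mono ((Scheme.Modules.pushforward i).map ι) := inferInstance
    exact mono_mulSection_of_mono_pushO i ((Scheme.Modules.pushforward i).map ι) u hx
  · intro Q hQ hQs hQx
    exact ih Q hQ (hQs.trans hMsupp) hQx

/-- **existence of good Hilbert polynomials** -/
theorem good_all (hadd : EulerAdd k X)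
    (hfin : ∀ M : X.Modules, Coh.IsCoh M → ∀ n, Module.Finite k (Coh.HH X M n))
    {L : X.Modules} (hL : CohB1.IsAmple L) (M : X.Modules) (hM : Coh.IsCoh M) : Good k L M := by
  refine devissage_rel (X' := Set.univ) isClosed_univ (Good k L) ?_ ?_ ?_ ?_ M hM
    (Set.subset_univ _)
  · rintro M N ⟨e⟩ h
    exact good_of_iso L e h
  · intro M hz
    exact good_of_isZero hadd hL.1 hz
  · intro S hS c1 c2 c3 _ p1 p3
    exact good_ext hadd hL.1 S hS c1 c2 c3 p1 p3
  · intro Z i _ _ _ ih I ι hι hI
    exact good_push hadd hfin hL Z i ih I ι hI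

end Groth.Agent.H86.Hilb
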