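import Groth.Agent.H48.FieldDim
import Groth.Agent.H24.Catenary
import Groth.Agent.H18.STL.GenLocus
import Groth.Agent.H18.STL.Invertible

/-!
# helper86: dimensions of closed subsets of a scheme locally of finite type over a field

With `δ = Groth.Agent.H48.FieldDim.δ f` (transcendence degree of the residue field):

* `dim_le_iff`: `dim T ≤ d ↔ ∀ t ∈ T, δ t ≤ d` for `T` closed;
* `exists_delta_eq_of_dim_eq`, `dim_eq_of_forall_le_of_exists`: `dim T = d` iff moreover some point
  has `δ = d`;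
* `delta_lt_of_specializes_of_ne`;
* `exists_delta_succ_eq` (**Krull's principal ideal theorem**, geometric form): if the section `u`
  of the invertible module `B` generates at `x₀` and does not generate at some specialization of
  `x₀`, there is a specialization `y` of `x₀` where `u` does not generate with `δ x₀ = δ y + 1`.
-/

set_option autoImplicit false
set_option linter.style.haveILetI false
universe u
open CategoryTheory CategoryTheory.Limits AlgebraicGeometry TopologicalSpace Opposite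

namespace Groth.Agent.H86.Hilb

open Groth.Agent.H48.FieldDim Groth.Agent.H62 Groth.Agent.H48.CycDim6 Groth.Agent.H48.DimFunSch
  Groth.Agent.H18 Groth.Agent.H18.PUP Groth.Agent.H18.STL

variable {k : Type u} [Field k] {X : Scheme.{u}} (f : X ⟶ Spec (CommRingCat.of k))
  [LocallyOfFiniteType f]

theorem toNat_delta_le_dim (T : Set X) (hT : IsClosed T) {t : X} (ht : t ∈ T) :
    (((δ f t).toNat : ℕ∞) : WithBot ℕ∞) ≤ topologicalKrullDim T := by
  rw [← topologicalKrullDim_closure_eq f t]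
  have hsub : closure ({t} : Set X) ⊆ T :=
    (hT.closure_subset_iff).2 (Set.singleton_subset_iff.2 ht)
  exact (Topology.IsEmbedding.inclusion hsub).isInducing.topologicalKrullDim_le

theorem dim_le_of_forall_delta_le (T : Set X) (hT : IsClosed T) (d : ℕ)
    (h : ∀ t ∈ T, δ f t ≤ d) : topologicalKrullDim T ≤ (d : WithBot ℕ∞) := by
  have hdT : PtTop.IsDimensionFunction (fun p : T => δ f p.1) :=
    isDimensionFunction_closed (δ f) (isDimFun f) T hT
  haveI : QuasiSober ↥T := hT.isClosedEmbedding_subtypeVal.quasiSober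
  change Order.krullDim (IrreducibleCloseds ↥T) ≤ _
  refine iSup_le fun s => ?_
  have h1 := length_le_of_dimfun hdT s
  have h3 := delta_nonneg f (gpt s.head).1
  have h2 := h (gpt s.last).1 (gpt s.last).2
  have h4 : s.length ≤ d := by
    simp only at h1
    omega
  exact_mod_cast h4

theorem dim_le_iff (T : Set X) (hT : IsClosed T) (d : ℕ) :
    topologicalKrullDim T ≤ (d : WithBot ℕ∞) ↔ ∀ t ∈ T, δ f t ≤ d := by
  constructor
  · intro h t ht
    have h1 := (toNat_delta_le_dim f T hT ht).trans h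
    have h2 : (δ f t).toNat ≤ d := by exact_mod_cast h1
    have := delta_nonneg f t
    omega
  · exact dim_le_of_forall_delta_le f T hT d

theorem exists_delta_eq_of_dim_eq (T : Set X) (hT : IsClosed T) (d : ℕ)
    (h : topologicalKrullDim T = (d : WithBot ℕ∞)) : ∃ t ∈ T, δ f t = d := by
  by_contra hcon
  push Not at hcon
  have hle : ∀ t ∈ T, δ f t ≤ d := (dim_le_iff f T hT d).1 h.le
  rcases Nat.eq_zero_or_pos d with rfl | hd
  · have hempty : IsEmpty ↥T := ⟨fun ⟨t, ht⟩ => hcon t ht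
      (le_antisymm (hle t ht) (by exact_mod_cast delta_nonneg f t))⟩
    haveI : IsEmpty (IrreducibleCloseds ↥T) := ⟨fun Z => by
      obtain ⟨x, _⟩ := Z.isIrreducible.nonempty
      exact hempty.false x⟩
    have h0 : topologicalKrullDim ↥T = ⊥ := Order.krullDim_eq_bot
    rw [h0] at h
    exact absurd h (by simp)
  · have h' : ∀ t ∈ T, δ f t ≤ ((d - 1 : ℕ) : ℤ) := fun t ht => by
      have h1 := hle t ht
      have h2 := hcon t ht
      omega
    have h1 := dim_le_of_forall_delta_le f T hT (d - 1) h'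
    rw [h] at h1
    have h2 : d ≤ d - 1 := by exact_mod_cast h1
    omega

theorem dim_eq_of_forall_le_of_exists (T : Set X) (hT : IsClosed T) (d : ℕ)
    (h1 : ∀ t ∈ T, δ f t ≤ d) (h2 : ∃ t ∈ T, δ f t = d) :
    topologicalKrullDim T = (d : WithBot ℕ∞) := by
  refine le_antisymm (dim_le_of_forall_delta_le f T hT d h1) ?_
  obtain ⟨t, ht, hd⟩ := h2
  have h3 := toNat_delta_le_dim f T hT ht
  rw [hd] at h3
  simpa using h3

theorem delta_lt_of_specializes_of_ne {x y : X} (h : x ⤳ y) (hne : x ≠ y) : δ f y < δ f x :=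
  (isDimFun f x y h hne).1

/-- **Krull's principal ideal theorem**, geometric form. -/
theorem exists_delta_succ_eq [IsLocallyNoetherian X] {B : X.Modules} (hB : PicF.IsInvertible B)
    (u : Coh.structureModule X ⟶ B) {x₀ z : X} (hx₀ : x₀ ∈ CohB1.genLocus B u) (hz : x₀ ⤳ z)
    (hzu : z ∉ CohB1.genLocus B u) :
    ∃ y : X, x₀ ⤳ y ∧ y ∉ CohB1.genLocus B u ∧ δ f x₀ = δ f y + 1 := by
  obtain ⟨U₀, t, hzU₀, hb⟩ := exists_basis_of_isInvertible hB z
  obtain ⟨V, hV, hzV, hVU₀⟩ := Opens.isBasis_iff_nbhd.mp X.isBasis_affineOpens hzU₀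
  have hβ : IsBasisOn B V (mres B hVU₀ t) := hb.mono hVU₀
  set β := mres B hVU₀ t with hβdef
  set g : Γ(X, V) := hβ.coord le_rfl (SecTwist.val u V) with hg
  have hval : SecTwist.val u V = g • β := by
    have h1 := hβ.coord_smul le_rfl (SecTwist.val u V)
    rw [mres_self] at h1
    exact h1.symm
  have hgen : CohB1.genLocus B u ⊓ V = X.basicOpen g := genLocus_inf_eq_basicOpen u hβ g hval
  have hx₀V : x₀ ∈ V := hz.mem_open V.2 hzV
  haveI : IsNoetherianRing Γ(X, V) := IsLocallyNoetherian.component_noetherian ⟨V, hV⟩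
  have hmem : ∀ p : PrimeSpectrum Γ(X, V), hV.fromSpec p ∈ X.basicOpen g ↔ g ∉ p.asIdeal := by
    intro p
    have h1 : hV.fromSpec p ∈ X.basicOpen g ↔ p ∈ hV.fromSpec ⁻¹ᵁ X.basicOpen g := Iff.rfl
    rw [h1, hV.fromSpec_preimage_basicOpen g]
    exact PrimeSpectrum.mem_basicOpen g p
  set a : PrimeSpectrum Γ(X, V) := hV.primeIdealOf ⟨x₀, hx₀V⟩ with ha
  set c : PrimeSpectrum Γ(X, V) := hV.primeIdealOf ⟨z, hzV⟩ with hc
  have haX : hV.fromSpec a = x₀ := hV.fromSpec_primeIdealOf ⟨x₀, hx₀V⟩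
  have hcX : hV.fromSpec c = z := hV.fromSpec_primeIdealOf ⟨z, hzV⟩
  have hac : a ≤ c := by
    rw [← fromSpec_specializes_iff hV, haX, hcX]
    exact hz
  have hga : g ∉ a.asIdeal := by
    rw [← hmem a, haX, ← hgen]
    exact ⟨hx₀, hx₀V⟩
  have hgc : g ∈ c.asIdeal := by
    by_contra hcon
    rw [← hmem c, hcX, ← hgen] at hcon
    exact hzu hcon.1
  have hle : a.asIdeal ⊔ Ideal.span {g} ≤ c.asIdeal :=
    sup_le hac ((Ideal.span_singleton_le_iff_mem _).2 hgc)
  obtain ⟨q, hq, hqc⟩ := Ideal.exists_minimalPrimes_le hle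
  have hcov := Groth.Agent.H24.covBy_of_mem_minimalPrimes_sup_span hga hq
  have hgq : g ∈ q := hq.1.2 (Ideal.mem_sup_right (Ideal.mem_span_singleton_self g))
  refine ⟨hV.fromSpec ⟨q, hq.1.1⟩, ?_, ?_, ?_⟩
  · rw [← haX, fromSpec_specializes_iff hV]
    exact hcov.le
  · intro hy
    have h1 : hV.fromSpec ⟨q, hq.1.1⟩ ∈ CohB1.genLocus B u ⊓ V := ⟨hy, fromSpec_mem hV _⟩
    rw [hgen, hmem] at h1
    exact h1 hgq
  · rw [← haX]
    exact delta_cov hV (δ f) (isDimFun f) a ⟨q, hq.1.1⟩ hcov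

end Groth.Agent.H86.Hilb
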