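import Groth.Prelude.Def_ShStab
import Groth.Agent.H92.TwistExact
import Groth.Agent.H18.ResProp.Ample

/-!
# helper86: iterated twists

`(M ⊗ L^a) ⊗ L^b ≅ M ⊗ L^(a+b)` for the prelude's `ShStab.twist`.
-/

set_option autoImplicit false
universe u
open CategoryTheory CategoryTheory.Limits AlgebraicGeometry

namespace Groth.Agent.H86.Hilb

variable {X : Scheme.{u}}

/-- `(M ⊗ L^a) ⊗ L^b ≅ M ⊗ L^(a+b)` -/
noncomputable def twistTwistIso (L M : X.Modules) (a : ℕ) : ∀ b : ℕ,
    ShStab.twist X L (ShStab.twist X L M a) b ≅ ShStab.twist X L M (a + b)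
  | 0 => SecTwist.unitorR _
  | b + 1 =>
    (Groth.Agent.H18.ResProp.tensorModAssoc (ShStab.twist X L M a) (CohB1.tensorPow L b) L).symm ≪≫
      (Groth.Agent.H92.TwistExact.tensorRightMod L).mapIso (twistTwistIso L M a b) ≪≫
      Groth.Agent.H18.ResProp.tensorModAssoc M (CohB1.tensorPow L (a + b)) L

/-- `M ⊗ L^0 ≅ M` -/
noncomputable def twistZeroIso (L M : X.Modules) : ShStab.twist X L M 0 ≅ M :=
  SecTwist.unitorR M

end Groth.Agent.H86.Hilb
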