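import Groth.Prelude.Def_ShStab
import Groth.Agent.H71.CohBC.HHIso
import Groth.Agent.H86.Hilb.TwistIso

/-!
# helper86: Euler characteristics and isomorphisms

* `euler_iso`: `χ` is invariant under isomorphism;
* `euler_twist_twist`: `χ((M ⊗ L^a) ⊗ L^b) = χ(M ⊗ L^(a+b))`; `euler_twist_zero`.
-/

set_option autoImplicit false
universe u
open CategoryTheory CategoryTheory.Limits AlgebraicGeometry

namespace Groth.Agent.H86.Hilb

variable (k : Type u) [Field k] (X : Scheme.{u}) [X.Over (Spec (CommRingCat.of k))]

/-- `χ` is invariant under isomorphism -/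
theorem euler_iso {M N : X.Modules} (e : M ≅ N) : Curv2.euler k X M = Curv2.euler k X N := by
  unfold Curv2.euler
  refine finsum_congr (fun i => ?_)
  rw [(Groth.Agent.H71.CohBC.hhLinearEquivOfIso k X e i).finrank_eq]

theorem euler_twist_twist (L M : X.Modules) (a b : ℕ) :
    Curv2.euler k X (ShStab.twist X L (ShStab.twist X L M a) b) =
      Curv2.euler k X (ShStab.twist X L M (a + b)) :=
  euler_iso k X (twistTwistIso L M a b)

theorem euler_twist_zero (L M : X.Modules) :
    Curv2.euler k X (ShStab.twist X L M 0) = Curv2.euler k X M :=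
  euler_iso k X (twistZeroIso L M)

/-- twists of isomorphic modules have the same Euler characteristic -/
theorem euler_twist_iso (L : X.Modules) {M N : X.Modules} (e : M ≅ N) (m : ℕ) :
    Curv2.euler k X (ShStab.twist X L M m) = Curv2.euler k X (ShStab.twist X L N m) :=
  euler_iso k X ((Groth.Agent.H92.TwistExact.tensorRightMod (CohB1.tensorPow L m)).mapIso e)

end Groth.Agent.H86.Hilb
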