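import Groth.Agent.H86.Hilb.Numeric
import Groth.Agent.H86.Hilb.EulerBasic
import Groth.Agent.H86.Hilb.Dim
import Groth.Agent.H92.ParHilb
import Groth.Agent.H71.QCoh.SupportProper
import Groth.Agent.H67.DevSupp
import Groth.Agent.H67.DevGen
import Groth.Agent.H6.HomShQC

/-!
# helper86: the property carried through the dévissage for Hilbert polynomials

`Good k L M`: `M` has a Hilbert polynomial `P` with respect to `L` such that, for every `d` bounding
`δ` (the transcendence degree of the residue field) on `Supp M`, `deg P ≤ d`, the coefficient of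
`X^d` is `≥ 0`, and it is `> 0` if some point of `Supp M` has `δ = d`.

Stability of `Good` under isomorphisms, zero objects and extensions (given additivity of the Euler
characteristic).
-/

set_option autoImplicit false
set_option linter.style.haveILetI false
universe u
open CategoryTheory CategoryTheory.Limits AlgebraicGeometry Polynomial

namespace Groth.Agent.H86.Hilb

open Groth.Agent.H48.FieldDim Groth.Agent.H92.ParHilb

variable (k : Type u) [Field k] {X : Scheme.{u}} [X.Over (Spec (CommRingCat.of k))]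
  [LocallyOfFiniteType (X ↘ Spec (CommRingCat.of k))]

/-- the transcendence degree of the residue field over `k` -/
noncomputable abbrev dl (x : X) : ℤ := δ (X ↘ Spec (CommRingCat.of k)) x

/-- the property carried through the dévissage -/
def Good (L M : X.Modules) : Prop :=
  ∃ P : ℚ[X], ShStab.IsHilbPoly k X L M P ∧
    ∀ d : ℕ, (∀ t ∈ CohB1.support M, dl k t ≤ d) →
      P.natDegree ≤ d ∧ 0 ≤ P.coeff d ∧ ((∃ t ∈ CohB1.support M, dl k t = d) → 0 < P.coeff d)

variable {k}

theorem good_of_iso (L : X.Modules) {M N : X.Modules} (e : M ≅ N) (h : Good k L M) :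
    Good k L N := by
  obtain ⟨P, hP, hc⟩ := h
  have hs : CohB1.support M = CohB1.support N := Groth.Agent.H67.Dev.support_eq_of_iso e
  refine ⟨P, fun m => ?_, ?_⟩
  · rw [← hP m, euler_twist_iso k X L e m]
  · rw [← hs]
    exact hc

theorem isHilbPoly_zero_of_isZero [IsLocallyNoetherian X] (hadd : EulerAdd k X)
    {L : X.Modules} (hL : PicF.IsInvertible L) {M : X.Modules} (hM : IsZero M) :
    ShStab.IsHilbPoly k X L M 0 := by
  intro m
  rw [euler_twist_of_isZero hadd hL m (Groth.Agent.H6.HomSh.isCoh_structureModule X) hM]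
  simp

theorem good_of_isZero [IsLocallyNoetherian X] (hadd : EulerAdd k X)
    {L : X.Modules} (hL : PicF.IsInvertible L) {M : X.Modules} (hM : IsZero M) :
    Good k L M := by
  refine ⟨0, isHilbPoly_zero_of_isZero hadd hL hM, fun d _ => ⟨by simp, by simp, ?_⟩⟩
  rintro ⟨t, ht, -⟩
  exact absurd ht (Groth.Agent.H67.Dev.notMem_support_of_isZero hM t)

theorem good_ext (hadd : EulerAdd k X) {L : X.Modules} (hL : PicF.IsInvertible L)
    (S : ShortComplex X.Modules) (hS : S.ShortExact) (h₁ : Coh.IsCoh S.X₁) (h₂ : Coh.IsCoh S.X₂)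
    (h₃ : Coh.IsCoh S.X₃) (g₁ : Good k L S.X₁) (g₃ : Good k L S.X₃) : Good k L S.X₂ := by
  obtain ⟨P₁, hP₁, hc₁⟩ := g₁
  obtain ⟨P₃, hP₃, hc₃⟩ := g₃
  have hs := Groth.Agent.H71.QCoh.support_eq_union_of_shortExact S hS
  refine ⟨P₁ + P₃, fun m => ?_, fun d hd => ?_⟩
  · rw [euler_twist_add hadd hL m S hS h₁ h₂ h₃, eval_add, ← hP₁ m, ← hP₃ m]
    push_cast
    rfl
  · have hd₁ : ∀ t ∈ CohB1.support S.X₁, dl k t ≤ d := fun t ht =>
      hd t (hs ▸ Or.inl ht)
    have hd₃ : ∀ t ∈ CohB1.support S.X₃, dl k t ≤ d := fun t ht =>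
      hd t (hs ▸ Or.inr ht)
    obtain ⟨a₁, b₁, c₁⟩ := hc₁ d hd₁
    obtain ⟨a₃, b₃, c₃⟩ := hc₃ d hd₃
    refine ⟨(natDegree_add_le _ _).trans (max_le a₁ a₃), ?_, ?_⟩
    · rw [coeff_add]
      exact add_nonneg b₁ b₃
    · rintro ⟨t, ht, htd⟩
      rw [coeff_add]
      rw [hs] at ht
      rcases ht with ht | ht
      · exact add_pos_of_pos_of_nonneg (c₁ ⟨t, ht, htd⟩) b₃
      · exact add_pos_of_nonneg_of_pos b₁ (c₃ ⟨t, ht, htd⟩)

end Groth.Agent.H86.Hilb
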