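import Groth.Agent.H86.Hilb.Zero
import Groth.Agent.H71.QCoh.EpiLocus

/-!
# helper86: existence of Hilbert polynomials with respect to an ample module (dévissage)

Hypotheses kept abstract here: additivity of the Euler characteristic `hadd : EulerAdd k X` and
finiteness of coherent cohomology `hfin`.  For `X` Noetherian of finite type over `k`, `L` ample,
every coherent `M` satisfies `Good k L M`: it has a Hilbert polynomial `P`, and for every `d`
bounding the transcendence degrees of the points of the support: `deg P ≤ d`, the coefficient of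
`X^d` is `≥ 0`, and `> 0` if a point of transcendence degree `d` exists in the support.
-/

set_option autoImplicit false
set_option linter.style.haveILetI false
set_option linter.unusedSectionVars false
universe u
open CategoryTheory CategoryTheory.Limits AlgebraicGeometry Polynomial TopologicalSpace Opposite

namespace Groth.Agent.H86.Hilb

open Groth.Agent.H48.FieldDim Groth.Agent.H92.ParHilb Groth.Agent.H18.STL Groth.Agent.H67.Dev
  Groth.Agent.H5.Stalk

variable {k : Type u} [Field k] {X : Scheme.{u}} [X.Over (Spec (CommRingCat.of k))]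
  [LocallyOfFiniteType (X ↘ Spec (CommRingCat.of k))] [IsNoetherian X]

/-- the data extracted from one section `u` of `L^N` generating at the generic point `x₀` of the
support -/
theorem step_data (hadd : EulerAdd k X) {L : X.Modules} (hL : CohB1.IsAmple L) (M : X.Modules)
    (hM : Coh.IsCoh M) (x₀ : X)
    (ih : ∀ Q : X.Modules, Coh.IsCoh Q → CohB1.support Q ⊆ CohB1.support M →
      x₀ ∉ CohB1.support Q → Good k L Q)
    (N : ℕ) (u : Coh.structureModule X ⟶ CohB1.tensorPow L N) (hx : x₀ ∈ CohB1.genLocus _ u)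
    [Mono (mulSection M u)] :
    ∃ g : ℚ[X],
      (∀ m : ℕ, (Curv2.euler k X (ShStab.twist X L M (m + N)) : ℚ) -
        (Curv2.euler k X (ShStab.twist X L M m) : ℚ) = g.eval (m : ℚ)) ∧
      (CohB1.support (cokernel (mulSection M u)) = ∅ → g = 0) ∧
      ∀ d : ℕ, (∀ t ∈ CohB1.support (cokernel (mulSection M u)), dl k t ≤ d) →
        g.natDegree ≤ d ∧ 0 ≤ g.coeff d ∧
          ((∃ t ∈ CohB1.support (cokernel (mulSection M u)), dl k t = d) → 0 < g.coeff d) := by
  have hQ := isCoh_cokernel_mulSection hL.1 hM N u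
  have hQs := support_cokernel_mulSection_subset hL.1 hM N u
  have hQx := notMem_support_cokernel_of_mem_genLocus hL.1 hM N u hx
  obtain ⟨g, hg, hc⟩ := ih _ hQ hQs hQx
  refine ⟨g, fun m => ?_, fun hempty => ?_, hc⟩
  · have h1 := euler_shift hadd hL.1 hM N u m
    rw [← hg m, Nat.add_comm m N, h1]
    push_cast
    ring
  · have hz : IsZero (cokernel (mulSection M u)) :=
      (Groth.Agent.H71.QCoh.isZero_iff_support_eq_empty _).2 hempty
    have h0 := isHilbPoly_zero_of_isZero hadd hL.1 hz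
    refine eq_of_eval_nat_eq g 0 (fun n => ?_)
    rw [← hg n, ← h0 n]

/-- **the irreducible step**, in abstract form -/
theorem good_of_cokernels (hadd : EulerAdd k X)
    (hfin : ∀ M : X.Modules, Coh.IsCoh M → ∀ n, Module.Finite k (Coh.HH X M n))
    {L : X.Modules} (hL : CohB1.IsAmple L) (M : X.Modules) (hM : Coh.IsCoh M) (x₀ : X)
    (hx₀ : x₀ ∈ CohB1.support M) (hspec : ∀ y ∈ CohB1.support M, x₀ ⤳ y)
    (hmono : ∀ (N : ℕ) (u : Coh.structureModule X ⟶ CohB1.tensorPow L N),
      x₀ ∈ CohB1.genLocus _ u → Mono (mulSection M u))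
    (ih : ∀ Q : X.Modules, Coh.IsCoh Q → CohB1.support Q ⊆ CohB1.support M →
      x₀ ∉ CohB1.support Q → Good k L Q) : Good k L M := by
  haveI : M.IsQuasicoherent := hM.1
  haveI : SheafOfModules.IsFiniteType (R := X.ringCatSheaf) M := hM.2
  have hcl : IsClosed (CohB1.support M) := Groth.Agent.H71.QCoh.isClosed_support M
  set f : ℕ → ℚ := fun m => (Curv2.euler k X (ShStab.twist X L M m) : ℚ) with hf
  -- points of the support of a cokernel have smaller `δ`
  have hlt : ∀ (N : ℕ) (u : Coh.structureModule X ⟶ CohB1.tensorPow L N),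
      x₀ ∈ CohB1.genLocus _ u → ∀ t ∈ CohB1.support (cokernel (mulSection M u)),
        dl k t < dl k x₀ := by
    intro N u hx t ht
    have h1 := support_cokernel_mulSection_subset hL.1 hM N u ht
    have h2 := notMem_support_cokernel_of_mem_genLocus hL.1 hM N u hx
    refine delta_lt_of_specializes_of_ne _ (hspec t h1) ?_
    rintro rfl
    exact h2 ht
  have hle : ∀ t ∈ CohB1.support M, dl k t ≤ dl k x₀ := by
    intro t ht
    by_cases h : x₀ = t
    · rw [h]
    · exact (delta_lt_of_specializes_of_ne _ (hspec t ht) h).le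
  obtain ⟨N₀, hN₀⟩ := exists_sections_large hL
  obtain ⟨u₁, hu₁⟩ := hN₀ (N₀ + 1) (by omega) x₀
  obtain ⟨u₂, hu₂⟩ := hN₀ (N₀ + 1 + 1) (by omega) x₀
  haveI := hmono _ u₁ hu₁
  haveI := hmono _ u₂ hu₂
  obtain ⟨g₁, hg₁, hz₁, hc₁⟩ := step_data hadd hL M hM x₀ ih _ u₁ hu₁
  obtain ⟨g₂, hg₂, hz₂, hc₂⟩ := step_data hadd hL M hM x₀ ih _ u₂ hu₂
  obtain ⟨P, hP, -⟩ := exists_poly_of_two_shifts f (N₀ + 1) g₁ g₂ hg₁ hg₂
  -- the shift identity for an arbitrary section
  have hshift : ∀ (N : ℕ) (u : Coh.structureModule X ⟶ CohB1.tensorPow L N)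
      (g : ℚ[X]), (∀ m : ℕ, f (m + N) - f m = g.eval (m : ℚ)) →
      P.comp (Polynomial.X + C (N : ℚ)) - P = g := by
    intro N u g hg
    refine eq_of_eval_nat_eq _ _ (fun m => ?_)
    rw [eval_sub, eval_comp, eval_add, eval_X, eval_C, ← hg m, hP m, hP (m + N)]
    push_cast
    rfl
  refine ⟨P, fun m => hP m, fun d hd => ?_⟩
  have hx₀d : dl k x₀ ≤ d := hd x₀ hx₀
  rcases Nat.eq_zero_or_pos d with rfl | hdpos
  · -- all cokernels vanish; `P` is constant
    have hempty : ∀ (N : ℕ) (u : Coh.structureModule X ⟶ CohB1.tensorPow L N),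
        x₀ ∈ CohB1.genLocus _ u → CohB1.support (cokernel (mulSection M u)) = ∅ := by
      intro N u hx
      rw [Set.eq_empty_iff_forall_notMem]
      intro t ht
      have h1 := hlt N u hx t ht
      have h2 := delta_nonneg (X ↘ Spec (CommRingCat.of k)) t
      have h3 : dl k x₀ ≤ 0 := by exact_mod_cast hx₀d
      change 0 ≤ dl k t at h2
      omega
    have e₁ := hz₁ (hempty _ u₁ hu₁)
    have e₂ := hz₂ (hempty _ u₂ hu₂)
    have hconst : ∀ m, f m = f 0 := by
      refine const_of_two_periods f (N₀ + 1) (fun m => ?_) (fun m => ?_)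
      · have := hg₁ m
        rw [e₁, eval_zero] at this
        exact sub_eq_zero.1 this
      · have := hg₂ m
        rw [e₂, eval_zero] at this
        exact sub_eq_zero.1 this
    have hPc : P = C (f 0) := by
      refine eq_of_eval_nat_eq _ _ (fun m => ?_)
      rw [← hP m, eval_C, hconst m]
    obtain ⟨m₀, hm₀⟩ := exists_euler_twist_pos hfin hL M hM hx₀ (by exact_mod_cast hd)
    have hpos : 0 < f 0 := by
      rw [← hconst m₀]
      change (0 : ℚ) < (Curv2.euler k X (ShStab.twist X L M m₀) : ℚ)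
      exact_mod_cast hm₀ m₀ le_rfl
    rw [hPc]
    refine ⟨by simp, ?_, fun _ => ?_⟩
    · rw [coeff_C_zero]; exact hpos.le
    · rw [coeff_C_zero]; exact hpos
  · obtain ⟨d', rfl⟩ : ∃ d', d = d' + 1 := ⟨d - 1, by omega⟩
    have hQd : ∀ (N : ℕ) (u : Coh.structureModule X ⟶ CohB1.tensorPow L N),
        x₀ ∈ CohB1.genLocus _ u → ∀ t ∈ CohB1.support (cokernel (mulSection M u)),
          dl k t ≤ d' := by
      intro N u hx t ht
      have h1 := hlt N u hx t ht
      have h3 : dl k x₀ ≤ (d' : ℤ) + 1 := by exact_mod_cast hx₀d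
      have : dl k t < (d' : ℤ) + 1 := lt_of_lt_of_le h1 h3
      omega
    obtain ⟨a₁, b₁, -⟩ := hc₁ d' (hQd _ u₁ hu₁)
    have hsh₁ := hshift _ u₁ g₁ hg₁
    have hN₁ : ((N₀ + 1 : ℕ) : ℚ) ≠ 0 := by positivity
    have hdeg : P.natDegree ≤ d' + 1 :=
      natDegree_le_of_shift_sub P _ hN₁ d' (by rw [hsh₁]; exact a₁)
    refine ⟨hdeg, ?_, ?_⟩
    · have h1 := coeff_shift_sub P ((N₀ + 1 : ℕ) : ℚ) d' hdeg
      rw [hsh₁] at h1
      have h2 : 0 < ((N₀ + 1 : ℕ) : ℚ) * ((d' : ℚ) + 1) := by positivity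
      have h3 : 0 ≤ ((N₀ + 1 : ℕ) : ℚ) * ((d' : ℚ) + 1) * P.coeff (d' + 1) := by
        rw [← h1]; exact b₁
      rw [mul_comm] at h3
      exact nonneg_of_mul_nonneg_left h3 h2
    · rintro ⟨t, ht, htd⟩
      have hx₀eq : dl k x₀ = (d' : ℤ) + 1 := by
        have h1 := hle t ht
        have h2 : dl k x₀ ≤ (d' : ℤ) + 1 := by exact_mod_cast hx₀d
        have h3 : dl k t = (d' : ℤ) + 1 := by exact_mod_cast htd
        omega
      -- `x₀` is not closed
      have hncl : ¬ IsClosed ({x₀} : Set X) := by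
        intro hcl0
        have := delta_eq_zero_of_isClosed (X ↘ Spec (CommRingCat.of k)) x₀ hcl0
        change dl k x₀ = 0 at this
        omega
      obtain ⟨y, hy, hyne⟩ : ∃ y, x₀ ⤳ y ∧ y ≠ x₀ := by
        by_contra hcon
        push Not at hcon
        apply hncl
        have : closure ({x₀} : Set X) = {x₀} := by
          refine Set.Subset.antisymm (fun y hy => ?_) subset_closure
          exact hcon y (specializes_iff_mem_closure.2 hy)
        rw [← this]
        exact isClosed_closure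
      let W : X.Opens := ⟨(closure ({y} : Set X))ᶜ, isClosed_closure.isOpen_compl⟩
      have hx₀W : x₀ ∈ W := by
        intro hmem
        have h1 : y ⤳ x₀ := specializes_iff_mem_closure.2 hmem
        exact hyne ((h1.antisymm hy).eq)
      obtain ⟨kk, b, hxb, hbW, -⟩ := exists_genLocus_nhd_of_isAmple hL W x₀ hx₀W
      have hyb : y ∉ CohB1.genLocus _ b := fun h => hbW h (subset_closure rfl)
      obtain ⟨y', hy', hy'b, hδ⟩ := exists_delta_succ_eq (X ↘ Spec (CommRingCat.of k))
        (isInvertible_tensorPow hL.1 (kk + 1)) b hxb hy hyb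
      change dl k x₀ = dl k y' + 1 at hδ
      have hy'M : y' ∈ CohB1.support M := hy'.mem_closed hcl hx₀
      haveI := hmono _ b hxb
      have hy'Q := mem_support_cokernel_mulSection M hM (isInvertible_tensorPow hL.1 (kk + 1)) b
        hy'M hy'b
      obtain ⟨g, hg, -, hc⟩ := step_data hadd hL M hM x₀ ih _ b hxb
      obtain ⟨-, -, c⟩ := hc d' (hQd _ b hxb)
      have hgpos : 0 < g.coeff d' := c ⟨y', hy'Q, by omega⟩
      have hsh := hshift _ b g hg
      have h1 := coeff_shift_sub P ((kk + 1 : ℕ) : ℚ) d' hdeg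
      rw [hsh] at h1
      have h2 : 0 < ((kk + 1 : ℕ) : ℚ) * ((d' : ℚ) + 1) := by positivity
      have h3 : 0 < ((kk + 1 : ℕ) : ℚ) * ((d' : ℚ) + 1) * P.coeff (d' + 1) := by
        rw [← h1]; exact hgpos
      rw [mul_comm] at h3
      exact pos_of_mul_pos_left h3 h2.le

end Groth.Agent.H86.Hilb
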