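import Groth.Agent.H18.STL.StalkGG
import Groth.Agent.H67.DevGlobal
import Groth.Agent.H67.DevRank
import Groth.Agent.H67.DevSupp
import Groth.Agent.H71.QCoh.StalkLocal

/-!
# helper86: multiplication by a section of an invertible module

For `u : O_X ⟶ B` and a module `A`, `Groth.Agent.H18.STL.mulSection A u : A ⟶ A ⊗ B`.

* `bijective_stalk_of_mem_genLocus`: `u` is stalkwise bijective on `X_u = genLocus B u`;
* `isIso_stalk_mulSection`: so is `mulSection A u`;
* `isZero_of_mono_pushO`: a subobject of `i_* O_Z` (`Z` integral) whose stalk at the image of the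
  generic point vanishes is zero;
* `mono_mulSection_of_mono_pushO`: `mulSection M u` is a monomorphism for `M ⊆ i_* O_Z` when `u`
  generates at the image of the generic point of `Z`;
* `notMem_support_cokernel_mulSection`: the cokernel of `mulSection A u` is supported off `X_u`.
-/

set_option autoImplicit false
set_option linter.style.haveILetI false
universe u
open CategoryTheory CategoryTheory.Limits AlgebraicGeometry TopologicalSpace Opposite

namespace Groth.Agent.H86.Hilb

open Groth.Agent.H5.Stalk Groth.Agent.H18.STL Groth.Agent.H67.Dev Groth.Agent.H18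

section Stalk

variable {X : Scheme.{u}}

/-- a section is stalkwise bijective on its locus of generation -/
theorem bijective_stalk_of_mem_genLocus {B : X.Modules} (u : Coh.structureModule X ⟶ B) {x : X}
    (hx : x ∈ CohB1.genLocus B u) : Function.Bijective ((stalkFunctor x).map u).hom := by
  have h1 : x ∈ sSup {W : X.Opens | IsIso ((Scheme.Modules.restrictFunctor W.ι).map u)} := hx
  rw [Opens.mem_sSup] at h1
  obtain ⟨W, hW, hxW⟩ := h1
  haveI : IsIso ((Rw W).map u) := hW
  exact stalk_bijective_of_isIso_restrict u W hxW

theorem isIso_stalk_of_mem_genLocus {B : X.Modules} (u : Coh.structureModule X ⟶ B) {x : X}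
    (hx : x ∈ CohB1.genLocus B u) : IsIso ((stalkFunctor x).map u) :=
  (ConcreteCategory.isIso_iff_bijective _).2 (bijective_stalk_of_mem_genLocus u hx)

/-- tensoring a stalkwise invertible morphism with a module gives a stalkwise invertible
morphism -/
theorem isIso_stalk_tensorMap_right (F : X.Modules) {E E' : X.Modules} (ψ : E ⟶ E') (x : X)
    (hψ : IsIso ((stalkFunctor x).map ψ)) :
    IsIso ((stalkFunctor x).map (KoszTw.tensorMap (𝟙 F) ψ)) := by
  have hnat := Groth.Agent.H5.Stalk.Tensor.stalkTensorIso_hom_naturality x (𝟙 F) ψ
  have h1 : (stalkFunctor x).map (KoszTw.tensorMap (𝟙 F) ψ) =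
      (Groth.Agent.H5.Stalk.Tensor.stalkTensorIso x F E).hom ≫
        (MonoidalCategoryStruct.tensorHom ((stalkFunctor x).map (𝟙 F)) ((stalkFunctor x).map ψ)) ≫
          (Groth.Agent.H5.Stalk.Tensor.stalkTensorIso x F E').inv := by
    rw [← Category.assoc, ← hnat, Category.assoc, Iso.hom_inv_id, Category.comp_id]
  rw [h1]
  infer_instance

/-- multiplication by a section is stalkwise invertible on the locus of generation -/
theorem isIso_stalk_mulSection (A : X.Modules) {B : X.Modules} (u : Coh.structureModule X ⟶ B)
    {x : X} (hx : x ∈ CohB1.genLocus B u) : IsIso ((stalkFunctor x).map (mulSection A u)) := by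
  unfold mulSection
  rw [CategoryTheory.Functor.map_comp]
  haveI := isIso_stalk_tensorMap_right A u x (isIso_stalk_of_mem_genLocus u hx)
  infer_instance

theorem bijective_stalk_mulSection (A : X.Modules) {B : X.Modules}
    (u : Coh.structureModule X ⟶ B) {x : X} (hx : x ∈ CohB1.genLocus B u) :
    Function.Bijective ((stalkFunctor x).map (mulSection A u)).hom :=
  (ConcreteCategory.isIso_iff_bijective _).1 (isIso_stalk_mulSection A u hx)

/-- the cokernel of multiplication by `u` is supported off `X_u` -/
theorem notMem_support_cokernel_mulSection (A : X.Modules) [A.IsQuasicoherent] {B : X.Modules}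
    [(CohB1.tensorMod A B).IsQuasicoherent]
    (u : Coh.structureModule X ⟶ B) {x : X} (hx : x ∈ CohB1.genLocus B u) :
    x ∉ CohB1.support (cokernel (mulSection A u)) := by
  intro h
  exact h (Groth.Agent.H71.QCoh.subsingleton_stalk_cokernel_of_surjective (mulSection A u) x
    (bijective_stalk_mulSection A u hx).2)

/-- a module all of whose sections vanish is zero -/
theorem isZero_of_forall_section_eq_zero (K : X.Modules)
    (h0 : ∀ (V : X.Opens) (σ : Γ(K, V)), σ = 0) : IsZero K := by
  refine isZero_of_isZero_stalks K (fun x => ?_)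
  haveI : Subsingleton ((stalkFunctor x).obj K) := by
    have h1 : ∀ t : K.presheaf.stalk x, t = 0 := by
      intro t
      obtain ⟨W, hxW, σ, rfl⟩ := TopCat.Presheaf.exists_germ_eq K.presheaf t
      rw [h0 W σ, map_zero]
    exact ⟨fun a b => (h1 a).trans (h1 b).symm⟩
  exact ModuleCat.isZero_of_subsingleton _

end Stalk

section Integral

variable {X Z : Scheme.{u}} (i : Z ⟶ X) [IsIntegral Z]

/-- a subobject of `i_* O_Z`, `Z` integral, whose stalk at the image of the generic point of `Z`
vanishes, is zero -/
theorem isZero_of_mono_pushO {K : X.Modules} (κ : K ⟶ pushO i) [Mono κ]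
    (h : Subsingleton (K.presheaf.stalk (i (genericPoint Z)))) : IsZero K := by
  refine isZero_of_forall_section_eq_zero K (fun V σ => ?_)
  have hinj : Function.Injective (κ.app V) := app_injective_of_mono κ V
  by_cases hξ : i (genericPoint Z) ∈ V
  · have h1 : K.presheaf.germ V _ hξ σ = K.presheaf.germ V _ hξ 0 := Subsingleton.elim _ _
    obtain ⟨W', hxW', i1, i2, hres⟩ := TopCat.Presheaf.germ_eq K.presheaf _ hξ hξ _ _ h1
    have hle : W' ≤ V := leOfHom i1
    have h2 : mres K hle σ = 0 := by
      have h3 : mres K hle σ = K.presheaf.map i1.op σ := rfl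
      rw [h3, hres, map_zero]
    apply hinj
    rw [map_zero]
    apply pushO_res_injective i hle hxW'
    rw [map_zero, Groth.Agent.H12.QCohExt.app_mres, h2, map_zero]
  · haveI := subsingleton_pushO_of_notMem i hξ
    exact hinj (Subsingleton.elim _ _)

/-- multiplication by a section generating at the image of the generic point of the integral
scheme `Z` is injective on subobjects of `i_* O_Z` -/
theorem mono_mulSection_of_mono_pushO {M : X.Modules} (ι : M ⟶ pushO i) [Mono ι] {B : X.Modules}
    (u : Coh.structureModule X ⟶ B) (hξ : i (genericPoint Z) ∈ CohB1.genLocus B u) :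
    Mono (mulSection M u) := by
  have hinj : Function.Injective
      ((TopCat.Presheaf.stalkFunctor _ (i (genericPoint Z))).map
        (mulSection M u).mapPresheaf).hom := (bijective_stalk_mulSection M u hξ).1
  have hK := Groth.Agent.H71.QCoh.subsingleton_stalk_kernel_of_injective (mulSection M u) _ hinj
  haveI : Mono (kernel.ι (mulSection M u) ≫ ι) := mono_comp _ _
  have hz := isZero_of_mono_pushO i (kernel.ι (mulSection M u) ≫ ι) hK
  exact Preadditive.mono_of_kernel_zero (hz.eq_of_src _ _)

end Integral

end Groth.Agent.H86.Hilb
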