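import Groth.Agent.H86.Hilb.MulSection
import Groth.Agent.H13.QuasiFlat
import Groth.Agent.H18.STL.GenAt
import Groth.Agent.H18.STL.Invertible
import Groth.Agent.H67.DevExt

/-!
# helper86: the support of the cokernel of multiplication by a section (Nakayama)

For `M` coherent, `B` invertible, `u : O_X ⟶ B` with `mulSection M u` a monomorphism:
`Supp M ∖ X_u ⊆ Supp (coker (mulSection M u))`.
-/

set_option autoImplicit false
set_option linter.style.haveILetI false
universe u
open CategoryTheory CategoryTheory.Limits AlgebraicGeometry TopologicalSpace Opposite TensorProduct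

namespace Groth.Agent.H86.Hilb

open Groth.Agent.H5.Stalk Groth.Agent.H18.STL Groth.Agent.H67.Dev Groth.Agent.H18
  Groth.Agent.H18.PUP

/-- pure algebra (Nakayama): over a local ring, if `v : N₀ → N` maps a generator of `N₀` into
`𝔪 N`, `N` free of rank one, then `M ⊗ v` is not surjective for `M` finite nonzero -/
theorem not_surjective_map_of_mem_maximalIdeal {R M N₀ N : Type u} [CommRing R] [IsLocalRing R]
    [AddCommGroup M] [Module R M] [Module.Finite R M] [Nontrivial M]
    [AddCommGroup N₀] [Module R N₀] [AddCommGroup N] [Module R N]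
    (o : N₀) (ho : ∀ n : N₀, ∃ r : R, r • o = n)
    (e : N) (he : Function.Bijective (fun r : R => r • e))
    (v : N₀ →ₗ[R] N) (g : R) (hg : g ∈ IsLocalRing.maximalIdeal R) (hv : v o = g • e) :
    ¬ Function.Surjective (TensorProduct.map (LinearMap.id : M →ₗ[R] M) v) := by
  intro hsurj
  let E : R ≃ₗ[R] N := LinearEquiv.ofBijective (LinearMap.toSpanSingleton R N e) he
  haveI : Module.Finite R N := Module.Finite.equiv E
  have hle : (⊤ : Submodule R (M ⊗[R] N)) ≤
      IsLocalRing.maximalIdeal R • (⊤ : Submodule R (M ⊗[R] N)) := by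
    have key : ∀ y : M ⊗[R] N₀, TensorProduct.map (LinearMap.id : M →ₗ[R] M) v y ∈
        IsLocalRing.maximalIdeal R • (⊤ : Submodule R (M ⊗[R] N)) := by
      intro y
      induction y using TensorProduct.induction_on with
      | zero => rw [map_zero]; exact Submodule.zero_mem _
      | tmul m n₀ =>
        obtain ⟨r, rfl⟩ := ho n₀
        rw [TensorProduct.map_tmul, LinearMap.id_apply, map_smul, hv, smul_smul, mul_comm,
          ← smul_smul, TensorProduct.tmul_smul]
        exact Submodule.smul_mem_smul hg Submodule.mem_top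
      | add a b ha hb => rw [map_add]; exact Submodule.add_mem _ ha hb
    intro x _
    obtain ⟨y, rfl⟩ := hsurj x
    exact key y
  have hbot : (⊤ : Submodule R (M ⊗[R] N)) = ⊥ :=
    Submodule.eq_bot_of_le_smul_of_le_jacobson_bot (IsLocalRing.maximalIdeal R) ⊤
      Module.Finite.fg_top hle (IsLocalRing.maximalIdeal_le_jacobson ⊥)
  have hsub : Subsingleton (M ⊗[R] N) := by
    refine ⟨fun a b => ?_⟩
    have ha : a ∈ (⊥ : Submodule R (M ⊗[R] N)) := hbot ▸ Submodule.mem_top
    have hb : b ∈ (⊥ : Submodule R (M ⊗[R] N)) := hbot ▸ Submodule.mem_top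
    rw [Submodule.mem_bot] at ha hb
    rw [ha, hb]
  let E2 : M ⊗[R] N ≃ₗ[R] M :=
    (TensorProduct.congr (LinearEquiv.refl R M) E.symm) ≪≫ₗ TensorProduct.rid R M
  haveI : Subsingleton M := E2.symm.toEquiv.subsingleton
  exact not_subsingleton M inferInstance

variable {X : Scheme.{u}}

/-- **Nakayama**: the points of `Supp M` where `u` does not generate lie in the support of the
cokernel of multiplication by `u` -/
theorem mem_support_cokernel_mulSection (M : X.Modules) (hM : Coh.IsCoh M) {B : X.Modules}
    (hB : PicF.IsInvertible B) (u : Coh.structureModule X ⟶ B) [Mono (mulSection M u)] {y : X}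
    (hyM : y ∈ CohB1.support M) (hyu : y ∉ CohB1.genLocus B u) :
    y ∈ CohB1.support (cokernel (mulSection M u)) := by
  by_contra hcon
  have hsurj := stalk_surjective_of_notMem_support_cokernel (mulSection M u) y hcon
  have hsurj2 : Function.Surjective ((stalkFunctor y).map (KoszTw.tensorMap (𝟙 M) u)).hom := by
    unfold mulSection at hsurj
    rw [CategoryTheory.Functor.map_comp] at hsurj
    intro z
    obtain ⟨w, hw⟩ := hsurj z
    exact ⟨_, hw⟩
  have hnat := Groth.Agent.H5.Stalk.Tensor.stalkTensorIso_hom_naturality y (𝟙 M) u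
  have hepi : Epi (MonoidalCategoryStruct.tensorHom ((stalkFunctor y).map (𝟙 M))
      ((stalkFunctor y).map u)) := by
    have h1 : MonoidalCategoryStruct.tensorHom ((stalkFunctor y).map (𝟙 M))
        ((stalkFunctor y).map u) =
        (Groth.Agent.H5.Stalk.Tensor.stalkTensorIso y M (Coh.structureModule X)).inv ≫
          (stalkFunctor y).map (KoszTw.tensorMap (𝟙 M) u) ≫
            (Groth.Agent.H5.Stalk.Tensor.stalkTensorIso y M B).hom := by
      rw [hnat, Iso.inv_hom_id_assoc]
    rw [h1]
    haveI : Epi ((stalkFunctor y).map (KoszTw.tensorMap (𝟙 M) u)) :=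
      (ModuleCat.epi_iff_surjective _).2 hsurj2
    infer_instance
  have hsurj3 : Function.Surjective (TensorProduct.map ((stalkFunctor y).map (𝟙 M)).hom
      ((stalkFunctor y).map u).hom) := (ModuleCat.epi_iff_surjective _).1 hepi
  rw [CategoryTheory.Functor.map_id] at hsurj3
  -- local data
  obtain ⟨U, e, hyU, he⟩ := exists_basis_of_isInvertible hB y
  set g : Γ(X, U) := he.coord le_rfl (SecTwist.val u U) with hg
  have hval : SecTwist.val u U = g • e := by
    have h1 := he.coord_smul le_rfl (SecTwist.val u U)
    rw [mres_self] at h1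
    exact h1.symm
  have hyg : y ∉ X.basicOpen g := by
    intro h
    apply hyu
    rw [mem_genLocus_iff_isGenAt u hyU, hval]
    exact (isGenAt_smul_basis_iff he g hyU).2 h
  have hgm : X.presheaf.germ U y hyU g ∈ IsLocalRing.maximalIdeal (X.presheaf.stalk y) := by
    rw [IsLocalRing.mem_maximalIdeal, mem_nonunits_iff]
    intro hunit
    exact hyg ((X.mem_basicOpen g y hyU).2 hunit)
  haveI : Module.Finite (X.presheaf.stalk y) ((stalkFunctor y).obj M) :=
    Groth.Agent.H13.finite_stalk_of_isCoh M hM y
  haveI : Nontrivial ((stalkFunctor y).obj M) := not_subsingleton_iff_nontrivial.1 hyM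
  have ho := (bijective_smul_germ_of_isBasisOn (isBasisOn_oneSec (X := X) U) y hyU).2
  have he' := bijective_smul_germ_of_isBasisOn he y hyU
  have hv : ((stalkFunctor y).map u).hom
      ((Coh.structureModule X).presheaf.germ U y hyU (oneSec X U) :
        (stalkFunctor y).obj (Coh.structureModule X)) =
      X.presheaf.germ U y hyU g • (B.presheaf.germ U y hyU e : (stalkFunctor y).obj B) := by
    rw [stalkFunctor_map_germ]
    have h1 : u.app U (oneSec X U) = SecTwist.val u U := by
      have := app_eq_smul_val u U (1 : Γ(X, U))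
      rw [one_smul] at this
      exact this
    rw [h1, hval]
    exact germ_smul B y U hyU g e
  exact not_surjective_map_of_mem_maximalIdeal
    (R := X.presheaf.stalk y) (M := (stalkFunctor y).obj M)
    (N₀ := (stalkFunctor y).obj (Coh.structureModule X)) (N := (stalkFunctor y).obj B)
    _ ho _ he' ((stalkFunctor y).map u).hom _ hgm hv hsurj3

end Groth.Agent.H86.Hilb
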