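import Mathlib

/-!
# helper86: numerical polynomials (for Hilbert polynomials)

Pure algebra about functions `ℕ → ℚ` and rational polynomials:

* `exists_poly_of_fwdDiff`: a function whose first difference is a polynomial function is a
  polynomial function (Gregory–Newton);
* `coeff_shift_sub`, `natDegree_le_of_shift_sub`: top coefficient and degree of `P(x+N) - P(x)`;
* `exists_poly_of_two_shifts`: if `f(m+N) - f(m)` and `f(m+N+1) - f(m)` are polynomial functions of
  `m`, then so is `f`;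
* `eq_of_eval_nat_eq`: a rational polynomial is determined by its values at the natural numbers.
-/

set_option autoImplicit false

open Polynomial Finset Function
open scoped fwdDiff

namespace Groth.Agent.H86.Hilb

/-- A rational polynomial is determined by its values at the natural numbers. -/
theorem eq_of_eval_nat_eq (P Q : ℚ[X]) (h : ∀ n : ℕ, P.eval (n : ℚ) = Q.eval (n : ℚ)) : P = Q := by
  refine Polynomial.eq_of_infinite_eval_eq P Q ?_
  refine Set.Infinite.mono (s := Set.range (fun n : ℕ => (n : ℚ))) ?_ ?_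
  · rintro _ ⟨n, rfl⟩
    exact h n
  · exact Set.infinite_range_of_injective Nat.cast_injective

/-- forward differences commute with the cast `ℕ → ℚ` -/
theorem fwdDiff_iter_comp_natCast (g : ℚ → ℚ) (k : ℕ) (n : ℕ) :
    (fwdDiff 1)^[k] (fun m : ℕ => g (m : ℚ)) n = ((fwdDiff 1)^[k] g) (n : ℚ) := by
  induction k generalizing g with
  | zero => rfl
  | succ k ih =>
    rw [Function.iterate_succ_apply, Function.iterate_succ_apply]
    have h1 : (Δ_[1] fun m : ℕ => g (m : ℚ)) = fun m : ℕ => (Δ_[1] g) (m : ℚ) := by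
      funext m
      simp [fwdDiff]
    rw [h1]
    exact ih (Δ_[1] g)

/-- **Gregory–Newton**: a function `ℕ → ℚ` whose first difference is a polynomial function is a
polynomial function. -/
theorem exists_poly_of_fwdDiff (f : ℕ → ℚ) (h : ℚ[X])
    (hf : ∀ n : ℕ, f (n + 1) - f n = h.eval (n : ℚ)) :
    ∃ F : ℚ[X], ∀ n : ℕ, f n = F.eval (n : ℚ) := by
  set e := h.natDegree with he
  have hΔ : Δ_[1] f = fun m : ℕ => h.eval (m : ℚ) := by
    funext n
    simp only [fwdDiff]
    exact hf n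
  have hzero : ∀ k : ℕ, e + 2 ≤ k → (fwdDiff 1)^[k] f 0 = 0 := by
    intro k hk
    obtain ⟨j, rfl⟩ : ∃ j, k = j + 1 := ⟨k - 1, by omega⟩
    rw [Function.iterate_succ_apply, hΔ, fwdDiff_iter_comp_natCast (fun x => h.eval x) j 0]
    have := Polynomial.fwdDiff_iter_eq_zero_of_degree_lt (P := h) (n := j) (by omega)
    exact congrFun this _
  refine ⟨∑ k ∈ range (e + 2),
    C ((fwdDiff 1)^[k] f 0 / (k.factorial : ℚ)) * descPochhammer ℚ k, fun n => ?_⟩
  have hN := shift_eq_sum_fwdDiff_iter (1 : ℕ) f n 0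
  rw [zero_add, smul_eq_mul, mul_one] at hN
  rw [hN, eval_finset_sum]
  have hterm : ∀ k : ℕ, eval (n : ℚ) (C ((fwdDiff 1)^[k] f 0 / (k.factorial : ℚ)) * descPochhammer ℚ k) =
      n.choose k • (fwdDiff 1)^[k] f 0 := by
    intro k
    rw [eval_mul, eval_C, descPochhammer_eval_eq_descFactorial,
      Nat.descFactorial_eq_factorial_mul_choose, nsmul_eq_mul]
    have : (k.factorial : ℚ) ≠ 0 := Nat.cast_ne_zero.mpr (Nat.factorial_ne_zero k)
    push_cast
    field_simp
  simp_rw [hterm]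
  set M := max (n + 1) (e + 2) with hM
  have h1 : ∑ k ∈ range (n + 1), n.choose k • (fwdDiff 1)^[k] f 0 =
      ∑ k ∈ range M, n.choose k • (fwdDiff 1)^[k] f 0 := by
    refine Finset.sum_subset (fun k hk => ?_) (fun k _ hk => ?_)
    · simp only [mem_range] at hk ⊢
      exact lt_of_lt_of_le hk (le_max_left _ _)
    · simp only [mem_range, not_lt] at hk
      rw [Nat.choose_eq_zero_of_lt (by omega), zero_smul]
  have h2 : ∑ k ∈ range (e + 2), n.choose k • (fwdDiff 1)^[k] f 0 =
      ∑ k ∈ range M, n.choose k • (fwdDiff 1)^[k] f 0 := by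
    refine Finset.sum_subset (fun k hk => ?_) (fun k _ hk => ?_)
    · simp only [mem_range] at hk ⊢
      exact lt_of_lt_of_le hk (le_max_right _ _)
    · simp only [mem_range, not_lt] at hk
      rw [hzero k hk, smul_zero]
  rw [h1, h2]

/-- the coefficient of `x^d` in `P(x+N) - P(x)` when `deg P ≤ d + 1` -/
theorem coeff_shift_sub (P : ℚ[X]) (N : ℚ) (d : ℕ) (hP : P.natDegree ≤ d + 1) :
    (P.comp (X + C N) - P).coeff d = N * ((d : ℚ) + 1) * P.coeff (d + 1) := by
  rw [← taylor_apply, coeff_sub, taylor_coeff]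
  have hdeg : (hasseDeriv d P).natDegree < 2 := by
    have := natDegree_hasseDeriv_le P d
    omega
  rw [eval_eq_sum_range' hdeg, Finset.sum_range_succ, Finset.sum_range_one, hasseDeriv_coeff,
    hasseDeriv_coeff]
  simp only [zero_add, pow_zero, mul_one, pow_one, Nat.choose_self, Nat.cast_one, one_mul]
  have : ((1 + d).choose d : ℚ) = (d : ℚ) + 1 := by
    rw [add_comm 1 d, Nat.choose_succ_self_right]
    push_cast
    ring
  rw [this, add_comm 1 d]
  ring

/-- degree bound for `P` from a degree bound for `P(x+N) - P(x)`, `N ≠ 0` -/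
theorem natDegree_le_of_shift_sub (P : ℚ[X]) (N : ℚ) (hN : N ≠ 0) (d : ℕ)
    (h : (P.comp (X + C N) - P).natDegree ≤ d) : P.natDegree ≤ d + 1 := by
  by_contra hcon
  push Not at hcon
  obtain ⟨e', he'⟩ : ∃ e', P.natDegree = e' + 1 := ⟨P.natDegree - 1, by omega⟩
  have h1 := coeff_shift_sub P N e' (by omega)
  have h2 : (P.comp (X + C N) - P).coeff e' = 0 :=
    coeff_eq_zero_of_natDegree_lt (by omega)
  rw [h2] at h1
  have h3 : P.coeff (e' + 1) ≠ 0 := by
    rw [← he']
    intro h0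
    have : P = 0 := leadingCoeff_eq_zero.mp h0
    rw [this] at he'
    simp at he'
  have h4 : ((e' : ℚ) + 1) ≠ 0 := by positivity
  exact (mul_ne_zero (mul_ne_zero hN h4) h3) h1.symm

/-- if `f(m+N) - f(m)` and `f(m+N+1) - f(m)` are polynomial functions of `m`, so is `f` -/
theorem exists_poly_of_two_shifts (f : ℕ → ℚ) (N : ℕ) (g₁ g₂ : ℚ[X])
    (h₁ : ∀ m : ℕ, f (m + N) - f m = g₁.eval (m : ℚ))
    (h₂ : ∀ m : ℕ, f (m + N + 1) - f m = g₂.eval (m : ℚ)) :
    ∃ P : ℚ[X], (∀ m : ℕ, f m = P.eval (m : ℚ)) ∧ P.comp (X + C (N : ℚ)) - P = g₁ := by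
  obtain ⟨F', hF'⟩ := exists_poly_of_fwdDiff (fun m => f (m + N)) (g₂ - g₁) (fun n => by
    have e1 := h₁ n
    have e2 := h₂ n
    have e3 : n + 1 + N = n + N + 1 := by omega
    simp only [eval_sub, e3]
    linarith)
  have hP : ∀ m : ℕ, f m = (F' - g₁).eval (m : ℚ) := by
    intro m
    have e1 := h₁ m
    have e2 := hF' m
    rw [eval_sub, ← e2]
    linarith
  refine ⟨F' - g₁, hP, ?_⟩
  refine eq_of_eval_nat_eq _ _ (fun m => ?_)
  rw [eval_sub, eval_comp, eval_add, eval_X, eval_C, ← h₁ m, hP (m + N), hP m]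
  push_cast
  rfl

/-- packaged form: the polynomial, with degree bound and top coefficient -/
theorem exists_poly_of_two_shifts' (f : ℕ → ℚ) (N : ℕ) (hN : N ≠ 0) (g₁ g₂ : ℚ[X])
    (h₁ : ∀ m : ℕ, f (m + N) - f m = g₁.eval (m : ℚ))
    (h₂ : ∀ m : ℕ, f (m + N + 1) - f m = g₂.eval (m : ℚ)) :
    ∃ P : ℚ[X], (∀ m : ℕ, f m = P.eval (m : ℚ)) ∧
      ∀ d : ℕ, g₁.natDegree ≤ d →
        P.natDegree ≤ d + 1 ∧ (N : ℚ) * ((d : ℚ) + 1) * P.coeff (d + 1) = g₁.coeff d := by
  obtain ⟨P, hP, hg⟩ := exists_poly_of_two_shifts f N g₁ g₂ h₁ h₂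
  refine ⟨P, hP, fun d hd => ?_⟩
  have hN' : (N : ℚ) ≠ 0 := Nat.cast_ne_zero.mpr hN
  have h1 : P.natDegree ≤ d + 1 := natDegree_le_of_shift_sub P N hN' d (by rw [hg]; exact hd)
  exact ⟨h1, by rw [← coeff_shift_sub P N d h1, hg]⟩

/-- a function with two coprime periods is constant -/
theorem const_of_two_periods (f : ℕ → ℚ) (N : ℕ) (h₁ : ∀ m : ℕ, f (m + N) = f m)
    (h₂ : ∀ m : ℕ, f (m + N + 1) = f m) (m : ℕ) : f m = f 0 := by
  have hstep : ∀ n : ℕ, f (n + 1) = f n := by
    intro n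
    have e1 := h₁ (n + 1)
    have e2 := h₂ n
    have e3 : n + 1 + N = n + N + 1 := by omega
    rw [e3] at e1
    rw [← e1, e2]
  induction m with
  | zero => rfl
  | succ m ih => rw [hstep, ih]

end Groth.Agent.H86.Hilb
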