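import Groth.Agent.H86.Hilb.Good
import Groth.Agent.H86.Hilb.MulSection
import Groth.Agent.H86.Hilb.Nakayama
import Groth.Agent.H67.DevTwo
import Groth.Agent.H67.TwistAllLarge
import Groth.Agent.H67.ParaExt2
import Groth.Agent.H18.TwistTensor2
import Groth.Agent.H18.TwistAmple
import Groth.Agent.H18.STL.AmpleBasis
import Groth.Agent.H71.QCoh.SupportTensor

/-!
# helper86: the irreducible step of the dévissage for Hilbert polynomials (part 1)

Sections of large powers of an ample module, the cokernel of multiplication by a section, and the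
shift relation `χ(M(N+m)) = χ(M(m)) + χ(Q(m))`.
-/

set_option autoImplicit false
set_option linter.style.haveILetI false
universe u
open CategoryTheory CategoryTheory.Limits AlgebraicGeometry Polynomial TopologicalSpace

namespace Groth.Agent.H86.Hilb

open Groth.Agent.H48.FieldDim Groth.Agent.H92.ParHilb Groth.Agent.H18.STL Groth.Agent.H67.Dev

section Sections

variable {X : Scheme.{u}}

/-- for `L` ample, all large powers of `L` have, for every point, a section generating there -/
theorem exists_sections_large [QuasiSeparatedSpace X] {L : X.Modules} (hL : CohB1.IsAmple L) :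
    ∃ N₀ : ℕ, ∀ N : ℕ, N₀ ≤ N → ∀ x : X,
      ∃ u : Coh.structureModule X ⟶ CohB1.tensorPow L N, x ∈ CohB1.genLocus _ u := by
  obtain ⟨N₀, h⟩ := Groth.Agent.H67.TwistAllLarge.exists_forall_large_pointwise hL
    (Groth.Agent.H67.ParaExt.isInvertible_structureModule (X := X))
  refine ⟨N₀, fun N hN x => ?_⟩
  obtain ⟨t, ht⟩ := h N hN x
  let e : CohB1.tensorMod (Coh.structureModule X) (CohB1.tensorPow L N) ≅ CohB1.tensorPow L N :=
    Groth.Agent.H18.tensorModComm (Coh.structureModule X) (CohB1.tensorPow L N) ≪≫
      SecTwist.unitorR (CohB1.tensorPow L N)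
  refine ⟨t ≫ e.hom, ?_⟩
  rw [Groth.Agent.H18.genLocus_comp_iso]
  exact ht

/-- the image of a closed immersion from an irreducible scheme is the closure of the image of the
generic point -/
theorem range_eq_closure {Z : Scheme.{u}} (i : Z ⟶ X) [IsClosedImmersion i] [IrreducibleSpace Z] :
    Set.range i = closure {i (genericPoint Z)} := by
  have h1 : closure ({genericPoint Z} : Set Z) = Set.univ := (genericPoint_spec Z).def
  rw [← Set.image_univ, ← h1, ← i.isClosedEmbedding.closure_image_eq, Set.image_singleton]

end Sections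

section Coker

variable {k : Type u} [Field k] {X : Scheme.{u}} [X.Over (Spec (CommRingCat.of k))]

theorem isCoh_cokernel_mulSection {L M : X.Modules} (hL : PicF.IsInvertible L)
    (hM : Coh.IsCoh M) (N : ℕ) (u : Coh.structureModule X ⟶ CohB1.tensorPow L N) :
    Coh.IsCoh (cokernel (mulSection M u)) :=
  isCoh_cokernel (mulSection M u) hM (isCoh_twist hL N hM)

theorem support_cokernel_mulSection_subset {L M : X.Modules} (hL : PicF.IsInvertible L)
    (hM : Coh.IsCoh M) (N : ℕ) (u : Coh.structureModule X ⟶ CohB1.tensorPow L N) :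
    CohB1.support (cokernel (mulSection M u)) ⊆ CohB1.support M := by
  intro y hy
  have h1 := support_subset_of_epi (cokernel.π (mulSection M u)) hy
  rw [Groth.Agent.H71.QCoh.support_tensorMod M (CohB1.tensorPow L N) hM (isCoh_tensorPow hL N)] at h1
  exact h1.1

theorem notMem_support_cokernel_of_mem_genLocus {L M : X.Modules} (hL : PicF.IsInvertible L)
    (hM : Coh.IsCoh M) (N : ℕ) (u : Coh.structureModule X ⟶ CohB1.tensorPow L N) {x : X}
    (hx : x ∈ CohB1.genLocus _ u) : x ∉ CohB1.support (cokernel (mulSection M u)) := by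
  haveI : M.IsQuasicoherent := hM.1
  haveI : (CohB1.tensorMod M (CohB1.tensorPow L N)).IsQuasicoherent := (isCoh_twist hL N hM).1
  exact notMem_support_cokernel_mulSection M u hx

/-- the shift relation `χ(M(N+m)) = χ(M(m)) + χ(Q(m))`, `Q = coker (M → M ⊗ L^N)` -/
theorem euler_shift (hadd : EulerAdd k X) {L M : X.Modules} (hL : PicF.IsInvertible L)
    (hM : Coh.IsCoh M) (N : ℕ) (u : Coh.structureModule X ⟶ CohB1.tensorPow L N)
    [Mono (mulSection M u)] (m : ℕ) :
    Curv2.euler k X (ShStab.twist X L M (N + m)) =
      Curv2.euler k X (ShStab.twist X L M m) +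
        Curv2.euler k X (ShStab.twist X L (cokernel (mulSection M u)) m) := by
  have hS := shortExact_cokernel (mulSection M u)
  have h := euler_twist_add hadd hL m _ hS hM (isCoh_twist hL N hM)
    (isCoh_cokernel_mulSection hL hM N u)
  rw [← euler_twist_twist k X L M N m]
  exact h

end Coker

end Groth.Agent.H86.Hilb
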