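import Groth.Agent.H86.Hilb.Step
import Groth.Agent.H86.GV.Main
import Groth.Agent.H38.EulerAdd
import Groth.Agent.H18.HH0Sections
import Groth.Agent.H18.STL.TwistGG
import Groth.Agent.H67.FinInvSupp

/-!
# helper86: Hilbert polynomials, the zero-dimensional input

For a coherent module `M` with `δ ≤ 0` on its support (i.e. finite support consisting of closed
points) and `L` ample, `χ(M ⊗ L^m) = dim H⁰(M ⊗ L^m) > 0` for `m` large as soon as `M ≠ 0`.
-/

set_option autoImplicit false
set_option linter.style.haveILetI false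
set_option linter.unusedSectionVars false
universe u
open CategoryTheory CategoryTheory.Limits AlgebraicGeometry Polynomial TopologicalSpace Opposite

namespace Groth.Agent.H86.Hilb

open Groth.Agent.H48.FieldDim Groth.Agent.H92.ParHilb Groth.Agent.H18.STL Groth.Agent.H67.Dev
  Groth.Agent.H5.Stalk

section Vanish

variable {X : Scheme.{u}} [IsNoetherian X]

/-- Grothendieck vanishing above the dimension of a closed set containing the support -/
theorem HH_subsingleton_of_support_subset (F : X.Modules) (T : Set X) (hT : IsClosed T)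
    (hFT : CohB1.support F ⊆ T) (q : ℕ) (hq : topologicalKrullDim T < (q : WithBot ℕ∞)) :
    Subsingleton (Coh.HH X F q) := by
  haveI : NoetherianSpace X := inferInstance
  haveI : NoetherianSpace ↑(TopCat.of ↑T) := inferInstanceAs (NoetherianSpace ↥T)
  refine Groth.Agent.H86.GV.H_subsingleton_of_supp (Y := X.toTopCat) T hT
    (Groth.Agent.H86.GV.grothendieck_vanishing _) (Coh.toAb F) (fun x hx => ?_) q hq
  have hs : Subsingleton (F.presheaf.stalk x) := not_not.1 (fun h => hx (hFT h))
  haveI : Subsingleton ↑(CohTop.stalk (Coh.toAb F) x) := hs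
  exact AddCommGrpCat.isZero_of_subsingleton _

end Vanish

variable {k : Type u} [Field k] {X : Scheme.{u}} [X.Over (Spec (CommRingCat.of k))]
  [LocallyOfFiniteType (X ↘ Spec (CommRingCat.of k))] [IsNoetherian X]

/-- if `δ ≤ 0` on a closed set containing the support, the Euler characteristic is `h⁰` -/
theorem euler_eq_finrank_of_delta_le_zero (F : X.Modules) (T : Set X) (hT : IsClosed T)
    (hFT : CohB1.support F ⊆ T) (hd : ∀ t ∈ T, dl k t ≤ 0) :
    Curv2.euler k X F = (Module.finrank k (Coh.HH X F 0) : ℤ) := by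
  have hdim : topologicalKrullDim T ≤ ((0 : ℕ) : WithBot ℕ∞) :=
    dim_le_of_forall_delta_le (X ↘ Spec (CommRingCat.of k)) T hT 0 (by simpa using hd)
  rw [Groth.Agent.H38.EulerAdd.euler_eq_sum k X F 0 (fun n hn =>
    HH_subsingleton_of_support_subset F T hT hFT n
      (lt_of_le_of_lt hdim (by exact_mod_cast hn)))]
  simp

/-- a module generated by global sections at a point of its support has a nonzero global section -/
theorem nontrivial_sections_of_isGGAt (F : X.Modules) {x : X} (hx : x ∈ CohB1.support F)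
    (hgg : IsGGAt F x) : Nontrivial (F.val.obj (op (⊤ : X.Opens))) := by
  by_contra hcon
  rw [not_nontrivial_iff_subsingleton] at hcon
  apply hx
  have h1 : globSpan F x = ⊥ := by
    unfold globSpan
    rw [Submodule.span_eq_bot]
    rintro _ ⟨s, rfl⟩
    have hs : s = 0 := @Subsingleton.elim _ hcon s 0
    subst hs
    exact map_zero _
  have h2 : (⊤ : Submodule (X.presheaf.stalk x) ((stalkFunctor x).obj F)) = ⊥ := by
    rw [← hgg, h1]
  have h3 : ∀ a : (stalkFunctor x).obj F, a = 0 := fun a => by
    have ha : a ∈ (⊥ : Submodule (X.presheaf.stalk x) ((stalkFunctor x).obj F)) :=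
      h2 ▸ Submodule.mem_top
    rwa [Submodule.mem_bot] at ha
  exact ⟨fun a b => (h3 a).trans (h3 b).symm⟩

/-- **positivity in dimension zero** -/
theorem exists_euler_twist_pos
    (hfin : ∀ M : X.Modules, Coh.IsCoh M → ∀ n, Module.Finite k (Coh.HH X M n))
    {L : X.Modules} (hL : CohB1.IsAmple L) (M : X.Modules) (hM : Coh.IsCoh M) {x₀ : X}
    (hx₀ : x₀ ∈ CohB1.support M) (hd : ∀ t ∈ CohB1.support M, dl k t ≤ 0) :
    ∃ m₀ : ℕ, ∀ m, m₀ ≤ m → 0 < Curv2.euler k X (ShStab.twist X L M m) := by
  haveI : M.IsQuasicoherent := hM.1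
  haveI : SheafOfModules.IsFiniteType (R := X.ringCatSheaf) M := hM.2
  have hcl : IsClosed (CohB1.support M) := Groth.Agent.H71.QCoh.isClosed_support M
  obtain ⟨m₀, hm₀⟩ := exists_forall_isGGAt_of_isAmple hL M
  refine ⟨m₀, fun m hm => ?_⟩
  have hsupp : CohB1.support (ShStab.twist X L M m) =
      CohB1.support M ∩ CohB1.support (CohB1.tensorPow L m) :=
    Groth.Agent.H71.QCoh.support_tensorMod M (CohB1.tensorPow L m) hM (isCoh_tensorPow hL.1 m)
  rw [euler_eq_finrank_of_delta_le_zero (ShStab.twist X L M m) (CohB1.support M) hcl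
    (by rw [hsupp]; exact Set.inter_subset_left) hd]
  have hx₀' : x₀ ∈ CohB1.support (ShStab.twist X L M m) := by
    rw [hsupp]
    exact ⟨hx₀, Groth.Agent.H67.Fin.mem_support_of_isInvertible
      (isInvertible_tensorPow hL.1 m) x₀⟩
  haveI := nontrivial_sections_of_isGGAt (ShStab.twist X L M m) hx₀' (hm₀ m hm x₀)
  haveI : Nontrivial (Coh.HH X (ShStab.twist X L M m) 0) :=
    (Groth.Agent.H18.HH0.equiv (ShStab.twist X L M m)).toEquiv.nontrivial
  haveI := hfin (ShStab.twist X L M m) (isCoh_twist hL.1 m hM) 0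
  exact_mod_cast Module.finrank_pos (R := k) (M := Coh.HH X (ShStab.twist X L M m) 0)

end Groth.Agent.H86.Hilb
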